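import Cfsg.Agent.H98.UnitaryOrth.Gen
import Cfsg.Agent.H98.SubfieldOrth.Main

/-!
Maximality of the rational orthogonal subgroup in the special unitary group.
-/

set_option autoImplicit false

namespace Cfsg.Agent.H98.UnitaryOrth

open scoped MatrixGroups Matrix
open Matrix QuadraticMap Module Cfsg.Agent.H95 Cfsg.Agent.Symplectic Cfsg.Agent.Orthogonal
open Cfsg.Agent.H98.SubfieldOrth (exists_hyp exists_hyp_at le_of_singular ratPts mem_subfieldSubgroup_iff)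

variable {ι : Type} [Fintype ι] [DecidableEq ι] {F : Type*} [Field F] [Finite F]
  {σ : F ≃+* F} {f : (ι → F) → (ι → F) → F} {F₀ : Subfield F}

namespace ORat

variable {R : ORat σ f F₀} {M : Subgroup (GL ι F)}

/-- An Eichler element with imaginary rational vector produces a rational transvection. -/
theorem exists_ut (hM : R.Over M) (hn : 7 ≤ Fintype.card ι) {θ : F} (hθ : σ θ = -θ) (hθ0 : θ ≠ 0)
    {x z b : R.V₀} (hx : R.Q₀ x = 0) (hx0 : x ≠ 0) (hz : R.Q₀ z = 0) (hxz : polar R.Q₀ x z = 1)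
    (hbx : polar R.Q₀ x b = 0) (hbz : polar R.Q₀ z b = 0) (hb : b ≠ 0) {t : F}
    (h : UE R.herm M (x : ι → F) (θ • (b : ι → F)) t) :
    ∃ x₁ : R.V₀, x₁ ≠ 0 ∧ R.Q₀ x₁ = 0 ∧ ∃ l : F, σ l = -l ∧ l ≠ 0 ∧ ut R.herm (x₁ : ι → F) l ∈ M := by
  have := R.finiteDimensional
  have hd0 : finrank F₀ R.V₀ = Fintype.card ι := R.finrank_eq
  have hf := R.herm
  set D := perp R.Q₀ (Submodule.span F₀ ({x, z} : Set R.V₀)) with hD
  have hDn : Nondeg (F := F₀) (V := D) (restr R.Q₀ D) := R.nondeg.nondeg_hyperbolic_perp hx hz hxz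
  have hDd : finrank F₀ D + 2 = finrank F₀ R.V₀ := R.nondeg.finrank_hyperbolic_perp hx hz hxz
  have hbD : b ∈ D := (mem_perp_span_pair R.Q₀).2 ⟨hbx, hbz⟩
  -- an isotropic vector of D not orthogonal to b
  obtain ⟨y, hyD, hy, hby⟩ : ∃ y ∈ D, R.Q₀ y = 0 ∧ polar R.Q₀ b y ≠ 0 := by
    by_contra hc
    push Not at hc
    have hle : D ≤ perp R.Q₀ (Submodule.span F₀ {b}) := le_of_singular hDn (by omega) _ fun v hvD hv =>
      (mem_perp_span_singleton R.Q₀).2 (hc v hvD hv)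
    exact hb (congrArg Subtype.val (hDn ⟨b, hbD⟩ fun v => by
      rw [polar_restr]; exact (mem_perp_span_singleton R.Q₀).1 (hle v.2)))
  have hy0 : y ≠ 0 := fun e => hby (by rw [e, polar_zero_right])
  obtain ⟨y', hy'D, hy', hyy', C, hCD, hC, hdC, hCy, -⟩ := exists_hyp_at R.nondeg hDn hyD hy0 hy
  obtain ⟨w, hwC, v, hvC, hw, hv, hwv, -⟩ := exists_hyp R.nondeg hC (by omega)
  have hxD : ∀ r ∈ D, polar R.Q₀ x r = 0 := fun r hr => ((mem_perp_span_pair R.Q₀).1 hr).1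
  have h1 : UE hf M (y : ι → F) (w : ι → F) 0 := hM.root hy hw (hCy w hwC).1
  have h2 : UE hf M (v : ι → F) (y : ι → F) 0 := hM.root hv hy (by rw [polar_comm]; exact (hCy v hvC).1)
  have h3 := h.step hM.le h1 h2 (R.one_of hwv) (R.zero_of (hxD y hyD)) (R.zero_of (hxD w (hCD hwC)))
    (R.zero_of (hxD v (hCD hvC)))
  set c := f (b : ι → F) (y : ι → F) with hc
  have hc0 : c ≠ 0 := fun e => hby (Subtype.ext (by rw [R.coe]; exact e))
  have hk : UE hf M (x : ι → F) (y' : ι → F) 0 := hM.root hx hy' (hxD y' hy'D)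
  have fxx : f (x : ι → F) (x : ι → F) = 0 := R.iso_of hx
  have fyy : f (y : ι → F) (y : ι → F) = 0 := R.iso_of hy
  have fxy' : f (x : ι → F) (y' : ι → F) = 0 := R.zero_of (hxD y' hy'D)
  have fxy : f (x : ι → F) (y : ι → F) = 0 := R.zero_of (hxD y hyD)
  have fyx : f (y : ι → F) (x : ι → F) = 0 := u_symm_zero hf fxy
  have fyy' : f (y : ι → F) (y' : ι → F) = 1 := R.one_of hyy'
  have h4 := (h3.conj hk.2 (hM.le hk.2)).congr (e' := (x : ι → F))
    (d' := f (θ • (b : ι → F)) (y : ι → F) • ((y : ι → F) - (x : ι → F))) (t' := 0) (by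
      rw [ue_mulVec hf hk.1, fxx, fxy']; simp) (by
      rw [ue_mulVec hf hk.1, u_smul_left hf (f _ (y : ι → F)) (y : ι → F),
        u_smul_left hf (f _ (y : ι → F)) (y : ι → F), fyx, fyy']
      module) rfl
  have h5 := (h4.mul h3.inv).congr (d' := (-(θ * c)) • (x : ι → F)) (t' := 0) rfl (by
      rw [u_smul_left hf, ← hc]; module) (by
      simp only [u_neg_left hf, u_smul_left hf, u_smul_right hf, u_sub_right hf, fyy, fyx, map_zero]
      ring)
  refine ⟨x, hx0, hx, -(2 * (θ * c)), ?_, ?_, ?_⟩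
  · rw [map_neg, map_mul, map_mul, map_ofNat, hθ, hc, R.sigma_f b y]; ring
  · exact neg_ne_zero.2 (mul_ne_zero R.two (mul_ne_zero hθ0 hc0))
  · have he : ue hf (x : ι → F) (-(θ * c) • (x : ι → F)) 0 = ut hf (x : ι → F) (-(2 * (θ * c))) := by
      refine gl_ext fun q => ?_
      rw [ue_mulVec hf h5.1, ut_mulVec hf fxx, u_smul_right hf, map_neg, map_mul, hθ, hc, R.sigma_f b y]
      module
    exact he ▸ h5.2

/-- An element moving a rational isotropic point to an irrational one produces a rational transvection. -/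
theorem exists_ut_of_move (hM : R.Over M) (hn : 11 ≤ Fintype.card ι) {θ : F} (hθ : σ θ = -θ) (hθ0 : θ ≠ 0)
    {g : GL ι F} (hg : g ∈ M) {u : R.V₀} (hu : R.Q₀ u = 0) (hu0 : u ≠ 0)
    (hout : ∀ c : F, c ≠ 0 → c • ((g : Matrix ι ι F) *ᵥ (u : ι → F)) ∉ R.V₀) :
    ∃ x₁ : R.V₀, x₁ ≠ 0 ∧ R.Q₀ x₁ = 0 ∧ ∃ l : F, σ l = -l ∧ l ≠ 0 ∧ ut R.herm (x₁ : ι → F) l ∈ M := by
  have := R.finiteDimensional
  have hd0 : finrank F₀ R.V₀ = Fintype.card ι := R.finrank_eq
  have hf := R.herm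
  have hgi := hM.le hg
  set p := (g : Matrix ι ι F) *ᵥ (u : ι → F) with hp
  obtain ⟨a, b, hab⟩ := R.exists_decomp hθ hθ0 p
  obtain ⟨C₀, hC₀, hdC₀, hC₀p⟩ := R.exists_perp_pair a b
  obtain ⟨x, hx, z, hz, hqx, hqz, hxz, hx0, C₁, hC₁0, hC₁, hdC₁, hC₁x⟩ := exists_hyp R.nondeg hC₀ (by omega)
  obtain ⟨x', hx', z', hz', hqx', hqz', hx'z', -⟩ := exists_hyp R.nondeg hC₁ (by omega)
  have hperp : ∀ c ∈ C₀, f p (c : ι → F) = 0 := fun c hc => by
    rw [hab, u_add_left hf, u_smul_left hf, R.zero_of (hC₀p c hc).1, R.zero_of (hC₀p c hc).2, mul_zero, add_zero]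
  -- an Eichler element centred at p, not orthogonal to x
  obtain ⟨d, hud, hβ⟩ : ∃ d : R.V₀, polar R.Q₀ u d = 0 ∧
      f ((g : Matrix ι ι F) *ᵥ (d : ι → F)) (x : ι → F) ≠ 0 := by
    by_contra hc
    push Not at hc
    obtain ⟨v₁, hv₁, huv₁⟩ := R.nondeg.exists_partner hu0 hu
    set r := ((g⁻¹ : GL ι F) : Matrix ι ι F) *ᵥ (x : ι → F) with hr
    have hgr : (g : Matrix ι ι F) *ᵥ r = (x : ι → F) := by rw [hr, mulVec_inv_mulVec]
    have hrd : ∀ d : R.V₀, polar R.Q₀ u d = 0 → f r (d : ι → F) = 0 := fun d hd => by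
      rw [← mem_isoGrp.1 hgi, hgr, u_symm_zero hf (hc d hd)]
    set k := f r (v₁ : ι → F) with hk
    have h0 : r - k • (u : ι → F) = 0 := R.eq_zero_of_orth fun v => by
      have hd : polar R.Q₀ u (v - polar R.Q₀ u v • v₁) = 0 := by
        rw [polar_sub_right, polar_smul_right', huv₁, mul_one, sub_self]
      have h1 := hrd _ hd
      rw [Submodule.coe_sub, R.coe_smul, R.coe, u_sub_right hf, u_smul_right hf, R.sigma_f, ← hk] at h1
      rw [u_sub_left hf, u_smul_left hf]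
      linear_combination h1
    have hxp : (x : ι → F) = k • p := by
      rw [← hgr, sub_eq_zero.1 h0, mulVec_smul, hp]
    rcases eq_or_ne k 0 with hk0 | hk0
    · exact hx0 (Subtype.ext (by rw [hxp, hk0, zero_smul]; rfl))
    · exact hout k hk0 (hxp ▸ x.2)
  set β := f ((g : Matrix ι ι F) *ᵥ (d : ι → F)) (x : ι → F) with hβdef
  have hgd := (hM.rat u d hu hud).conj hg hgi
  have h1 : UE hf M (x : ι → F) (x' : ι → F) 0 := hM.root hqx hqx' (hC₁x x' hx').1
  have h2 : UE hf M (z' : ι → F) (x : ι → F) 0 :=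
    hM.root hqz' hqx (by rw [polar_comm]; exact (hC₁x z' hz').1)
  have h3 := hgd.step hM.le h1 h2 (R.one_of hx'z') (hperp x hx) (hperp x' (hC₁0 hx')) (hperp z' (hC₁0 hz'))
  have h4 := h3.swap (R.iso_of hqx) (u_symm_zero hf (hperp x hx))
  set γ := -σ β with hγ
  have hγ0 : γ ≠ 0 := neg_ne_zero.2 fun e => hβ ((map_eq_zero_iff σ σ.injective).1 e)
  obtain ⟨c₁, c₂, hc⟩ := R.exists_parts hθ hθ0 γ
  have hθ2 : θ * θ ∈ F₀ := (R.fixed _).1 (by rw [map_mul, hθ]; ring)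
  set a' := c₁ • a + ((⟨θ * θ, hθ2⟩ : F₀) * c₂) • b with ha'
  set b' := c₁ • b + c₂ • a with hb'
  have hd' : γ • p = (a' : ι → F) + θ • (b' : ι → F) := by
    rw [hab, hc, ha', hb']
    simp only [Submodule.coe_add, R.coe_smul, Subfield.coe_mul]
    module
  have hb'C : ∀ c ∈ C₀, polar R.Q₀ c b' = 0 := fun c hc' => by
    rw [hb', polar_comm, polar_add_left, polar_smul_left', polar_smul_left', (hC₀p c hc').1, (hC₀p c hc').2]
    ring
  have ha'C : ∀ c ∈ C₀, polar R.Q₀ c a' = 0 := fun c hc' => by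
    rw [ha', polar_comm, polar_add_left, polar_smul_left', polar_smul_left', (hC₀p c hc').1, (hC₀p c hc').2]
    ring
  have hb0 : b' ≠ 0 := fun e => hout γ hγ0 (by
    rw [hd', e, ZeroMemClass.coe_zero, smul_zero, add_zero]; exact a'.2)
  have h5 := (h4.congr rfl hd' rfl).mul (hM.rat x a' hqx (ha'C x hx)).inv
  exact exists_ut hM (by omega) hθ hθ0 hqx hx0 hqz hxz (hb'C x hx) (hb'C z hz) hb0
    (h5.congr rfl (by abel) rfl)

/-- Elements preserving all rational isotropic points preserve the rational space up to a scalar. -/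
theorem stab_of_points (hn : 5 ≤ Fintype.card ι) {g : GL ι F} (hgi : g ∈ isoGrp f)
    (h : ∀ u : R.V₀, R.Q₀ u = 0 → ∃ c : F, c ≠ 0 ∧ c • ((g : Matrix ι ι F) *ᵥ (u : ι → F)) ∈ R.V₀) :
    ∃ c : F, c ≠ 0 ∧ ∀ v ∈ R.V₀, c • ((g : Matrix ι ι F) *ᵥ v) ∈ R.V₀ := by
  have := R.finiteDimensional
  have hd0 : finrank F₀ R.V₀ = Fintype.card ι := R.finrank_eq
  have hf := R.herm
  obtain ⟨u₀, hu₀, hq₀⟩ := R.nondeg.exists_singular (by omega)
  obtain ⟨c₀, hc₀, hc₀v⟩ := h u₀ hq₀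
  have near : ∀ u v : R.V₀, R.Q₀ v = 0 → polar R.Q₀ u v ≠ 0 → c₀ • ((g : Matrix ι ι F) *ᵥ (u : ι → F)) ∈ R.V₀ →
      c₀ • ((g : Matrix ι ι F) *ᵥ (v : ι → F)) ∈ R.V₀ := fun u v hv huv hu => by
    obtain ⟨c, hc, hcv⟩ := h v hv
    have h1 := R.f_mem ⟨_, hu⟩ ⟨_, hcv⟩
    simp only [u_smul_left hf, u_smul_right hf, mem_isoGrp.1 hgi] at h1
    rw [← R.coe] at h1
    have hsc : σ c ≠ 0 := fun e => hc ((map_eq_zero_iff σ σ.injective).1 e)
    have hp0 : ((polar R.Q₀ u v : F₀) : F) ≠ 0 := fun e => huv (Subtype.ext e)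
    have h2 : c₀ * σ c ∈ F₀ := by
      have := F₀.div_mem h1 (polar R.Q₀ u v).2
      convert this using 1
      field_simp
    have h3 : c * σ c ∈ F₀ := (R.fixed _).1 (by rw [map_mul, u_inv hf]; ring)
    have h4 := F₀.div_mem h2 h3
    rw [mul_div_mul_right _ _ hsc] at h4
    have h5 := R.V₀.smul_mem (⟨_, h4⟩ : F₀) hcv
    rwa [Subfield.smul_def, smul_smul, div_mul_cancel₀ c₀ hc] at h5
  let S : Submodule F₀ R.V₀ :=
    { carrier := {v | c₀ • ((g : Matrix ι ι F) *ᵥ (v : ι → F)) ∈ R.V₀}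
      add_mem' := fun {p r} hp hr => by
        show c₀ • ((g : Matrix ι ι F) *ᵥ ((p + r : R.V₀) : ι → F)) ∈ R.V₀
        rw [Submodule.coe_add, mulVec_add, smul_add]; exact R.V₀.add_mem hp hr
      zero_mem' := by
        show c₀ • ((g : Matrix ι ι F) *ᵥ ((0 : R.V₀) : ι → F)) ∈ R.V₀
        rw [ZeroMemClass.coe_zero, mulVec_zero, smul_zero]; exact R.V₀.zero_mem
      smul_mem' := fun s v hv => by
        show c₀ • ((g : Matrix ι ι F) *ᵥ ((s • v : R.V₀) : ι → F)) ∈ R.V₀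
        rw [R.coe_smul, mulVec_smul, smul_comm, ← Subfield.smul_def]; exact R.V₀.smul_mem s hv }
  have hS : S = ⊤ := span_singular R.nondeg (by omega) S fun v hv => by
    rcases eq_or_ne v 0 with rfl | hv0
    · exact S.zero_mem
    by_cases huv : polar R.Q₀ u₀ v = 0
    · obtain ⟨w, hw, huw, hvw⟩ := exists_common_partner R.nondeg (by omega) hu₀ hv0 hq₀ hv
      exact near w v hv (by rw [polar_comm]; exact hvw) (near u₀ w hw huw hc₀v)
    · exact near u₀ v hv huv hc₀v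
  exact ⟨c₀, hc₀, fun v hv => (hS ▸ Submodule.mem_top : (⟨v, hv⟩ : R.V₀) ∈ S)⟩

end ORat

/-- Maximality of the rational subgroup among the subgroups of the special isometry group. -/
theorem isMaximalIn_rational (P : GL ι F) (R : ORat σ f F₀) (hR : R.V₀ = ratPts F₀ P) (hn : 11 ≤ Fintype.card ι)
    (G : Subgroup (GL ι F)) (hG : G = isoGrp f ⊓ Geo.specialLinear ι F)
    (hgen : ∀ M : Subgroup (GL ι F), (∀ v, f v v = 0 → UtIn R.herm M v) → G ≤ M) :
    Geo.IsMaximalIn G (Geo.subfieldSubgroup F₀ P ⊓ G) := by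
  have := R.finiteDimensional
  have hd0 : finrank F₀ R.V₀ = Fintype.card ι := R.finrank_eq
  have hf := R.herm
  obtain ⟨θ, hθ0, hθ⟩ := exists_skew_ne_zero hf
  refine ⟨lt_of_le_not_ge inf_le_right fun h => ?_, fun M hM hMG => ?_⟩
  · obtain ⟨x, -, z, -, hx, hz, hxz, -⟩ :=
      exists_hyp R.nondeg (nondeg_restr_top R.nondeg) (by rw [finrank_top]; omega)
    have fxx : f (x : ι → F) (x : ι → F) = 0 := R.iso_of hx
    have fzx : f (z : ι → F) (x : ι → F) = 1 := R.one_of (by rw [polar_comm]; exact hxz)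
    obtain ⟨c, hc, hcv⟩ := (mem_subfieldSubgroup_iff F₀ P _).1
      (h (hG ▸ ⟨ut_mem_iso hf fxx hθ, ut_mem_sl hf (x : ι → F) θ⟩ : ut hf (x : ι → F) θ ∈ G)).1
    rw [← hR] at hcv
    have h1 := R.f_mem ⟨_, hcv x x.2⟩ z
    simp only [ut_mulVec hf fxx, fxx, mul_zero, zero_smul, add_zero, u_smul_left hf, R.one_of hxz, mul_one] at h1
    have h2 := R.f_mem ⟨_, hcv z z.2⟩ z
    simp only [ut_mulVec hf fxx, fzx, mul_one, u_smul_left hf, u_add_left hf, R.iso_of hz, R.one_of hxz,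
      zero_add] at h2
    have h3 := F₀.div_mem h2 h1
    rw [mul_div_cancel_left₀ _ (inv_ne_zero hc), ← R.fixed, hθ] at h3
    exact mul_ne_zero R.two hθ0 (by linear_combination -h3)
  by_cases hMS : M ≤ Geo.subfieldSubgroup F₀ P
  · exact Or.inl (le_antisymm (le_inf hMS hMG) hM)
  refine Or.inr (le_antisymm hMG (hgen M ?_))
  have hMi : M ≤ isoGrp f := fun m hm => (hG ▸ hMG hm).1
  have hOver : R.Over M := by
    refine ⟨hMi, fun e d he hed => ?_⟩
    have hok : EichOK hf (e : ι → F) (d : ι → F) (-f (d : ι → F) (d : ι → F) / 2) := by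
      refine ⟨R.iso_of he, R.zero_of (by rw [polar_comm]; exact hed), ?_⟩
      rw [map_div₀, map_neg, map_ofNat, R.sigma_f d d]
      have := R.two
      field_simp
      ring
    refine ⟨hok, hM ⟨(mem_subfieldSubgroup_iff F₀ P _).2 ⟨1, one_ne_zero, ?_⟩,
      hG ▸ ⟨ue_mem_iso hf hok, ue_mem_sl hf _ _ _⟩⟩⟩
    intro v hv
    rw [← hR] at hv ⊢
    rw [inv_one, one_smul, ue_mulVec hf hok]
    have h2 : (2 : F) ∈ F₀ := ofNat_mem F₀ 2
    refine R.V₀.add_mem (R.V₀.add_mem hv (R.V₀.smul_mem (⟨_, R.f_mem ⟨v, hv⟩ e⟩ : F₀) d.2)) ?_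
    exact R.V₀.smul_mem (⟨_, F₀.sub_mem (F₀.mul_mem (F₀.div_mem (F₀.neg_mem (R.f_mem d d)) h2)
      (R.f_mem ⟨v, hv⟩ e)) (R.f_mem ⟨v, hv⟩ d)⟩ : F₀) e.2
  obtain ⟨g, hgM, hgS⟩ := SetLike.not_le_iff_exists.1 hMS
  obtain ⟨u, hu, hout⟩ : ∃ u : R.V₀, R.Q₀ u = 0 ∧
      ∀ c : F, c ≠ 0 → c • ((g : Matrix ι ι F) *ᵥ (u : ι → F)) ∉ R.V₀ := by
    by_contra hc
    push Not at hc
    obtain ⟨c, hc0, hcv⟩ := R.stab_of_points (by omega) (hMi hgM) hc
    refine hgS ((mem_subfieldSubgroup_iff F₀ P _).2 ⟨c⁻¹, inv_ne_zero hc0, fun v hv => ?_⟩)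
    rw [inv_inv, ← hR]
    exact hcv v (hR ▸ hv)
  have hu0 : u ≠ 0 := fun e => hout 1 one_ne_zero (by
    rw [e, ZeroMemClass.coe_zero, mulVec_zero, smul_zero]; exact R.V₀.zero_mem)
  obtain ⟨x₁, hx₁0, hx₁, l, hl, hl0, hmem⟩ := R.exists_ut_of_move hOver hn hθ hθ0 hgM hu hu0 hout
  exact R.utIn_all hOver (by omega) hθ hθ0 hx₁0 hx₁ hl hl0 hmem

omit [Finite F] in
/-- The rational structure given by a change of basis. -/
theorem exists_oRat (hf : Cfsg.Geo.IsUnitaryForm σ f) (h2 : (2 : F) ≠ 0) (hfix : ∀ x, σ x = x ↔ x ∈ F₀) (P : GL ι F)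
    (hP : ∀ u ∈ ratPts F₀ P, ∀ v ∈ ratPts F₀ P, f u v ∈ F₀) :
    ∃ R : ORat σ f F₀, R.V₀ = ratPts F₀ P := by
  classical
  let W := ratPts F₀ P
  have h2m : (2 : F) ∈ F₀ := ofNat_mem F₀ 2
  have hsym : ∀ u v : W, f (v : ι → F) (u : ι → F) = f (u : ι → F) (v : ι → F) := fun u v => by
    rw [← (hfix _).2 (hP u u.2 v v.2), u_conj hf]
  let q : W → F₀ := fun v => ⟨f (v : ι → F) (v : ι → F) / 2, F₀.div_mem (hP v v.2 v v.2) h2m⟩
  have hq : ∀ u v : W, ((polar q u v : F₀) : F) = f (u : ι → F) (v : ι → F) := fun u v => by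
    simp only [polar, q, Subfield.coe_sub, Submodule.coe_add, u_add_left hf, u_add_right hf, hsym u v]
    field_simp
    ring
  let Q₀ : QuadraticForm F₀ W := QuadraticMap.ofPolar q
    (fun a x => Subtype.ext (by
      show f ((a • x : W) : ι → F) ((a • x : W) : ι → F) / 2 =
        ((a * a : F₀) : F) * (f (x : ι → F) (x : ι → F) / 2)
      rw [Submodule.coe_smul, Subfield.smul_def, u_smul_left hf, u_smul_right hf, (hfix _).2 a.2, Subfield.coe_mul]
      ring))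
    (fun x y z => Subtype.ext (by
      rw [Subfield.coe_add, hq, hq, hq, Submodule.coe_add, u_add_left hf]))
    (fun a x y => Subtype.ext (by
      rw [smul_eq_mul, Subfield.coe_mul, hq, hq, Submodule.coe_smul, Subfield.smul_def, u_smul_left hf]))
  have hcol : ∀ j, (P : Matrix ι ι F) *ᵥ Pi.single j 1 ∈ W := fun j k => by
    rw [Cfsg.Agent.H98.SubfieldOrth.inv_mul_vec]
    rcases eq_or_ne k j with rfl | hk
    · simp [F₀.one_mem]
    · simp [Pi.single_eq_of_ne hk, F₀.zero_mem]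
  have hspan : Submodule.span F (W : Set (ι → F)) = ⊤ := by
    rw [eq_top_iff]
    intro v _
    have hv : v = ∑ j, (((P⁻¹ : GL ι F) : Matrix ι ι F) *ᵥ v) j • ((P : Matrix ι ι F) *ᵥ Pi.single j 1) := by
      simp only [← Matrix.mulVec_smul]
      rw [← Matrix.mulVec_sum, ← pi_eq_sum_univ', Cfsg.Agent.H98.SubfieldOrth.mul_inv_vec]
    rw [hv]
    exact Submodule.sum_mem _ fun j _ => Submodule.smul_mem _ _ (Submodule.subset_span (hcol j))
  let e : (ι → F₀) ≃ₗ[F₀] W :=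
    { toFun := fun u => ⟨(P : Matrix ι ι F) *ᵥ fun i => (u i : F), fun i => by
        rw [Cfsg.Agent.H98.SubfieldOrth.inv_mul_vec]; exact (u i).2⟩
      map_add' := fun a b => Subtype.ext (by
        show (P : Matrix ι ι F) *ᵥ (fun i => ((a + b) i : F)) = _
        rw [Submodule.coe_add, ← Matrix.mulVec_add]; rfl)
      map_smul' := fun a b => Subtype.ext (by
        show (P : Matrix ι ι F) *ᵥ (fun i => ((a • b) i : F)) = _
        rw [RingHom.id_apply, Submodule.coe_smul, Subfield.smul_def, ← Matrix.mulVec_smul]; rfl)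
      invFun := fun v i => ⟨(((P⁻¹ : GL ι F) : Matrix ι ι F) *ᵥ (v : ι → F)) i, v.2 i⟩
      left_inv := fun u => funext fun i => Subtype.ext (by simp)
      right_inv := fun v => Subtype.ext (by simp) }
  refine ⟨⟨hf, h2, hfix, W, Q₀, hq, fun x hx => Subtype.ext ?_, hspan, ?_⟩, rfl⟩
  · by_contra hx0
    obtain ⟨-, y, hy⟩ := hf.nondegenerate (x : ι → F) hx0
    refine hy ?_
    have hys : y ∈ Submodule.span F (W : Set (ι → F)) := hspan ▸ Submodule.mem_top
    clear hy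
    induction hys using Submodule.span_induction with
    | mem z hz => exact (hq x ⟨z, hz⟩).symm.trans (congrArg Subtype.val (hx ⟨z, hz⟩))
    | zero => exact u_zero_right hf _
    | add p r _ _ hp hr => rw [u_add_right hf, hp, hr, add_zero]
    | smul c p _ hp => rw [u_smul_right hf, hp, mul_zero]
  · rw [← e.finrank_eq, Module.finrank_fintype_fun_eq_card]

end Cfsg.Agent.H98.UnitaryOrth
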