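import Cfsg.Agent.Symplectic.HermSubBasic
import Cfsg.Agent.H98.SubfieldOrth.Basic

/-!
Rational structures of a unitary form over the fixed field: Eichler elements, the basic step.
-/

set_option autoImplicit false

namespace Cfsg.Agent.H98.UnitaryOrth

open scoped MatrixGroups Matrix
open Matrix QuadraticMap Module Cfsg.Agent.H95 Cfsg.Agent.Symplectic Cfsg.Agent.Orthogonal

variable {ι : Type} [Fintype ι] [DecidableEq ι] {F : Type*} [Field F]
  {σ : F ≃+* F} {f : (ι → F) → (ι → F) → F}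

/-- A symmetric rational structure of a unitary form over the fixed field. -/
structure ORat (σ : F ≃+* F) (f : (ι → F) → (ι → F) → F) (F₀ : Subfield F) where
  herm : Cfsg.Geo.IsUnitaryForm σ f
  two : (2 : F) ≠ 0
  fixed : ∀ x, σ x = x ↔ x ∈ F₀
  V₀ : Submodule F₀ (ι → F)
  Q₀ : QuadraticForm F₀ V₀
  coe : ∀ u v : V₀, ((polar Q₀ u v : F₀) : F) = f u v
  nondeg : Nondeg Q₀
  span_eq : Submodule.span F (V₀ : Set (ι → F)) = ⊤
  finrank_eq : finrank F₀ V₀ = Fintype.card ι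

variable (hf : Cfsg.Geo.IsUnitaryForm σ f)

/-- The Eichler element exists and lies in `M`. -/
def UE (M : Subgroup (GL ι F)) (e d : ι → F) (t : F) : Prop :=
  EichOK hf e d t ∧ ue hf e d t ∈ M

variable {hf} {M : Subgroup (GL ι F)} {e d : ι → F} {t : F}

theorem UE.congr {e' d' : ι → F} {t' : F} (h : UE hf M e d t) (h1 : e = e') (h2 : d = d') (h3 : t = t') :
    UE hf M e' d' t' := h1 ▸ h2 ▸ h3 ▸ h

theorem UE.mul {d' : ι → F} {t' : F} (h : UE hf M e d t) (h' : UE hf M e d' t') :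
    UE hf M e (d + d') (t + t' - f d' d) :=
  ⟨h.1.add hf h'.1, by rw [← ue_mul hf h.1 h'.1]; exact M.mul_mem h.2 h'.2⟩

theorem UE.inv (h : UE hf M e d t) : UE hf M e (-d) (σ t) := by
  have hok : EichOK hf e (-d) (σ t) := by
    refine ⟨h.1.1, by rw [u_neg_left hf, h.1.2.1, neg_zero], ?_⟩
    rw [u_inv hf, ← neg_one_smul F d, u_smul_left hf, u_smul_right hf, map_neg, map_one]
    linear_combination h.1.2.2
  refine ⟨hok, ?_⟩
  have he : (ue hf e d t)⁻¹ = ue hf e (-d) (σ t) := by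
    refine inv_eq_of_mul_eq_one_right (gl_ext fun x => ?_)
    rw [ue_mul hf h.1 hok, ue_mulVec hf (h.1.add hf hok), Units.val_one, one_mulVec]
    have h0 : t + σ t - f (-d) d = 0 := by
      rw [← neg_one_smul F d, u_smul_left hf]; linear_combination h.1.2.2
    rw [h0, add_neg_cancel, u_zero_right hf]
    simp
  exact he ▸ M.inv_mem h.2

theorem UE.conj (h : UE hf M e d t) {g : GL ι F} (hg : g ∈ M) (hgi : g ∈ isoGrp f) :
    UE hf M ((g : Matrix ι ι F) *ᵥ e) ((g : Matrix ι ι F) *ᵥ d) t := by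
  have hok : EichOK hf ((g : Matrix ι ι F) *ᵥ e) ((g : Matrix ι ι F) *ᵥ d) t :=
    ⟨by rw [mem_isoGrp.1 hgi]; exact h.1.1, by rw [mem_isoGrp.1 hgi]; exact h.1.2.1,
      by rw [mem_isoGrp.1 hgi]; exact h.1.2.2⟩
  refine ⟨hok, ?_⟩
  have he : g * ue hf e d t * g⁻¹ = ue hf ((g : Matrix ι ι F) *ᵥ e) ((g : Matrix ι ι F) *ᵥ d) t := by
    refine gl_ext fun x => ?_
    have key : ∀ w, f x ((g : Matrix ι ι F) *ᵥ w) = f (((g⁻¹ : GL ι F) : Matrix ι ι F) *ᵥ x) w := fun w => by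
      conv_lhs => rw [← mulVec_inv_mulVec g x]
      rw [mem_isoGrp.1 hgi]
    rw [mul_mulVec, mul_mulVec, ue_mulVec hf h.1, ue_mulVec hf hok, mulVec_add, mulVec_add, mulVec_smul,
      mulVec_smul, mulVec_inv_mulVec, key, key]
  exact he ▸ M.mul_mem (M.mul_mem hg h.2) (M.inv_mem hg)

theorem UE.smul_center {a : F} (h : UE hf M (a • e) d t) (ha : a ≠ 0) :
    UE hf M e (σ a • d) (t * (a * σ a)) := by
  have hok : EichOK hf e (σ a • d) (t * (a * σ a)) := by
    have h1 := h.1.1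
    have h2 := h.1.2.1
    rw [u_smul_left hf, u_smul_right hf] at h1
    rw [u_smul_right hf] at h2
    have hσ : σ a ≠ 0 := fun h0 => ha ((map_eq_zero_iff σ σ.injective).1 h0)
    refine ⟨?_, ?_, ?_⟩
    · simpa [ha, hσ] using h1
    · rw [u_smul_left hf]; exact h2
    · rw [map_mul, map_mul, u_inv hf, u_smul_left hf, u_smul_right hf, u_inv hf]
      linear_combination (a * σ a) * h.1.2.2
  refine ⟨hok, ?_⟩
  have he : ue hf (a • e) d t = ue hf e (σ a • d) (t * (a * σ a)) := by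
    refine gl_ext fun x => ?_
    rw [ue_mulVec hf h.1, ue_mulVec hf hok]
    simp only [u_smul_right hf, u_inv hf]
    module
  exact he ▸ h.2

theorem UE.swap {c : F} (h : UE hf M e (c • d) 0) (hd : f d d = 0) (hde : f d e = 0) :
    UE hf M d (-σ c • e) 0 := by
  have hok : EichOK hf d (-σ c • e) 0 := by
    refine ⟨hd, by rw [u_smul_left hf, u_symm_zero hf hde, mul_zero], ?_⟩
    rw [u_smul_left hf, u_smul_right hf, h.1.1]; simp
  refine ⟨hok, ?_⟩
  have he : ue hf e (c • d) 0 = ue hf d (-σ c • e) 0 := by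
    refine gl_ext fun x => ?_
    rw [ue_mulVec hf h.1, ue_mulVec hf hok]
    simp only [u_smul_right hf, map_neg, u_inv hf]
    module
  exact he ▸ h.2

/-- The basic commutator step. -/
theorem UE.step (hMG : M ≤ isoGrp f) {p b x x' z' : ι → F} {t : F} (h : UE hf M p b t) (h1 : UE hf M x x' 0)
    (h2 : UE hf M z' x 0) (hz : f x' z' = 1) (hpx : f p x = 0) (hpx' : f p x' = 0) (hpz : f p z' = 0) :
    UE hf M p (f b x • x) 0 := by
  have e1 : (ue hf x x' 0 : Matrix ι ι F) *ᵥ p = p := by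
    rw [ue_mulVec hf h1.1, hpx, hpx']; simp
  have e2 : (ue hf z' x 0 : Matrix ι ι F) *ᵥ p = p := by
    rw [ue_mulVec hf h2.1, hpx, hpz]; simp
  have hm := (h.conj h1.2 (hMG h1.2)).congr e1 rfl rfl |>.mul h.inv
  have hm2 := (hm.conj h2.2 (hMG h2.2)).congr e2 rfl rfl |>.mul hm.inv
  have hxx := h1.1.1
  have hzz := h2.1.1
  have hx'x : f x' x = 0 := h1.1.2.1
  have hxz : f x z' = 0 := h2.1.2.1
  have hxx' : f x x' = 0 := u_symm_zero hf hx'x
  have hb := h.1.2.2
  have hx'x' : f x' x' = 0 := by have := h1.1.2.2; simp only [map_zero, add_zero] at this; linear_combination this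
  refine hm2.congr rfl ?_ ?_
  · simp only [ue_mulVec hf h1.1, ue_mulVec hf h2.1, u_add_left hf, u_smul_left hf, hz, hxz, hxx,
      hx'x, u_neg_left hf]
    module
  · simp only [ue_mulVec hf h1.1, ue_mulVec hf h2.1, u_add_left hf, u_add_right hf, u_smul_left hf,
      u_smul_right hf, hz, hxz, hxx, hx'x, hxx', hx'x', u_neg_left hf, u_neg_right hf, map_add, map_sub, map_neg,
      map_mul, map_zero, u_inv hf, u_conj hf]
    linear_combination 2 * hb

namespace ORat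

variable {F₀ : Subfield F} (R : ORat σ f F₀)

theorem f_mem (u v : R.V₀) : f (u : ι → F) (v : ι → F) ∈ F₀ := by rw [← R.coe]; exact SetLike.coe_mem _

theorem sigma_f (u v : R.V₀) : σ (f (u : ι → F) (v : ι → F)) = f (u : ι → F) (v : ι → F) :=
  (R.fixed _).2 (R.f_mem u v)

theorem coe_smul (a : F₀) (v : R.V₀) : ((a • v : R.V₀) : ι → F) = (a : F) • (v : ι → F) := rfl

theorem zero_of {u v : R.V₀} (h : polar R.Q₀ u v = 0) : f (u : ι → F) (v : ι → F) = 0 := by
  rw [← R.coe, h, ZeroMemClass.coe_zero]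

theorem one_of {u v : R.V₀} (h : polar R.Q₀ u v = 1) : f (u : ι → F) (v : ι → F) = 1 := by
  rw [← R.coe, h, OneMemClass.coe_one]

theorem iso_of {u : R.V₀} (h : R.Q₀ u = 0) : f (u : ι → F) (u : ι → F) = 0 :=
  R.zero_of (by rw [polar_self', h, mul_zero])

theorem two₀ (R : ORat σ f F₀) : (2 : F₀) ≠ 0 := fun h => R.two (congrArg Subtype.val h)

/-- `M` lies in the isometry group and contains the rational Eichler elements. -/
structure Over (M : Subgroup (GL ι F)) : Prop where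
  le : M ≤ isoGrp f
  rat : ∀ e d : R.V₀, R.Q₀ e = 0 → polar R.Q₀ e d = 0 →
    UE R.herm M (e : ι → F) (d : ι → F) (-f (d : ι → F) (d : ι → F) / 2)

theorem Over.root {R : ORat σ f F₀} (hM : R.Over M) {e d : R.V₀} (he : R.Q₀ e = 0) (hd : R.Q₀ d = 0)
    (hed : polar R.Q₀ e d = 0) : UE R.herm M (e : ι → F) (d : ι → F) 0 :=
  (hM.rat e d he hed).congr rfl rfl (by rw [R.iso_of hd, neg_zero, zero_div])

theorem exists_parts (R : ORat σ f F₀) {θ : F} (hθ : σ θ = -θ) (hθ0 : θ ≠ 0) (c : F) :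
    ∃ a b : F₀, c = (a : F) + θ * (b : F) := by
  refine ⟨⟨(c + σ c) / 2, (R.fixed _).1 ?_⟩, ⟨(c - σ c) / (2 * θ), (R.fixed _).1 ?_⟩, ?_⟩
  · rw [map_div₀, map_add, u_inv R.herm, map_ofNat, add_comm]
  · rw [map_div₀, map_sub, u_inv R.herm, map_mul, map_ofNat, hθ, mul_neg, div_neg, ← neg_div, neg_sub]
  · have h2 := R.two
    field_simp
    ring

theorem exists_decomp {θ : F} (hθ : σ θ = -θ) (hθ0 : θ ≠ 0) (x : ι → F) :
    ∃ a b : R.V₀, x = (a : ι → F) + θ • (b : ι → F) := by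
  have hθ2 : θ * θ ∈ F₀ := (R.fixed _).1 (by rw [map_mul, hθ]; ring)
  have hx : x ∈ Submodule.span F (R.V₀ : Set (ι → F)) := R.span_eq ▸ Submodule.mem_top
  induction hx using Submodule.span_induction with
  | mem z hz => exact ⟨⟨z, hz⟩, 0, by simp⟩
  | zero => exact ⟨0, 0, by simp⟩
  | add p r _ _ hp hr =>
    obtain ⟨a, b, rfl⟩ := hp
    obtain ⟨a', b', rfl⟩ := hr
    exact ⟨a + a', b + b', by simp only [Submodule.coe_add]; module⟩
  | smul c p _ hp =>
    obtain ⟨a, b, rfl⟩ := hp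
    obtain ⟨c₁, c₂, rfl⟩ := R.exists_parts hθ hθ0 c
    refine ⟨c₁ • a + ((⟨θ * θ, hθ2⟩ : F₀) * c₂) • b, c₁ • b + c₂ • a, ?_⟩
    simp only [Submodule.coe_add, R.coe_smul]
    module

theorem eq_zero_of_orth {x : ι → F} (h : ∀ v : R.V₀, f x (v : ι → F) = 0) : x = 0 := by
  by_contra hx
  obtain ⟨-, y, hy⟩ := R.herm.nondegenerate x hx
  refine hy ?_
  have hys : y ∈ Submodule.span F (R.V₀ : Set (ι → F)) := R.span_eq ▸ Submodule.mem_top
  clear hy
  induction hys using Submodule.span_induction with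
  | mem z hz => exact h ⟨z, hz⟩
  | zero => exact u_zero_right R.herm x
  | add p r _ _ hp hr => rw [u_add_right R.herm, hp, hr, add_zero]
  | smul c p _ hp => rw [u_smul_right R.herm, hp, mul_zero]

/-- A nondegenerate rational space orthogonal to two vectors. -/
theorem exists_perp_pair [FiniteDimensional F₀ R.V₀] (a b : R.V₀) :
    ∃ C : Submodule F₀ R.V₀, Nondeg (F := F₀) (V := C) (restr R.Q₀ C) ∧ finrank F₀ R.V₀ ≤ finrank F₀ C + 4 ∧
      ∀ c ∈ C, polar R.Q₀ a c = 0 ∧ polar R.Q₀ b c = 0 := by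
  classical
  set U := Submodule.span F₀ ({a, b} : Set R.V₀) with hU
  set W := perp R.Q₀ U with hW
  obtain ⟨T, hT⟩ := Submodule.exists_isCompl (W ⊓ U)
  have hdec : (W ⊓ U) ⊔ W ⊓ T = W := by
    rw [inf_comm W T, ← sup_inf_assoc_of_le T (inf_le_left : W ⊓ U ≤ W), hT.sup_eq_top, top_inf_eq]
  refine ⟨W ⊓ T, ?_, ?_, fun c hc => (mem_perp_span_pair R.Q₀).1 hc.1⟩
  · rw [nondeg_restr_iff]
    refine eq_bot_iff.2 fun x hx => ?_
    have hxW : x ∈ perp R.Q₀ W := by
      rw [← hdec, perp_sup]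
      exact ⟨(mem_perp R.Q₀).2 fun w hw => (mem_perp R.Q₀).1 hx.1.1 w hw.2, hx.2⟩
    rw [hW, R.nondeg.perp_perp] at hxW
    exact hT.disjoint.le_bot ⟨⟨hx.1.1, hxW⟩, hx.1.2⟩
  · have h1 := Submodule.finrank_sup_add_finrank_inf_eq (W ⊓ U) (W ⊓ T)
    rw [hdec] at h1
    have h2 := R.nondeg.finrank_add_perp U
    rw [← hW] at h2
    have h3 : finrank F₀ (W ⊓ U : Submodule F₀ R.V₀) ≤ finrank F₀ U := Submodule.finrank_mono inf_le_right
    have h4 : finrank F₀ U ≤ 2 := by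
      refine (finrank_span_le_card ({a, b} : Set R.V₀)).trans ?_
      rw [Set.toFinset_insert, Set.toFinset_singleton]
      exact Finset.card_le_two
    omega

end ORat

end Cfsg.Agent.H98.UnitaryOrth
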